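import Cfsg.Agent.Chev.SL2
import Mathlib.Algebra.CharP.Two

/-! Elements of `SL₂` in characteristic two with fifth power one and trace in the field of eight elements. -/

set_option autoImplicit false
set_option linter.unusedSectionVars false

open Cfsg.Lie Cfsg.Lib.Chev

namespace Cfsg.Lib.E7TwoSixtyFive

variable {K : Type*} [Field K] [CharP K 2]

/-- The group `SL₂`. -/
abbrev SL (K : Type*) [Field K] := Matrix.SpecialLinearGroup (Fin 2) K

/-- The diagonal element. -/
def dM (s : Kˣ) : SL K := ⟨!![(s : K), 0; 0, ((s⁻¹ : Kˣ) : K)], by simp [Matrix.det_fin_two]⟩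

/-- The antidiagonal element. -/
def aM (s : Kˣ) : SL K :=
  ⟨!![0, ((s⁻¹ : Kˣ) : K); (s : K), 0], by simp [Matrix.det_fin_two, CharTwo.neg_eq]⟩

theorem mat_dM (s : Kˣ) : mat (dM s) = !![(s : K), 0; 0, ((s⁻¹ : Kˣ) : K)] := rfl
theorem mat_aM (s : Kˣ) : mat (aM s) = !![0, ((s⁻¹ : Kˣ) : K); (s : K), 0] := rfl

theorem dM_conj_u (s : Kˣ) (t : K) : dM s * uM t * (dM s)⁻¹ = uM ((s : K) ^ 2 * t) := by
  rw [mul_inv_eq_iff_eq_mul]
  apply mat_inj
  ext i j
  fin_cases i <;> fin_cases j <;> simp [mat_mul, mat_dM, mat_uM, Matrix.mul_apply, Fin.sum_univ_two] <;>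
    field_simp

theorem dM_conj_l (s : Kˣ) (t : K) : dM s * lM t * (dM s)⁻¹ = lM (((s : K) ^ 2)⁻¹ * t) := by
  rw [mul_inv_eq_iff_eq_mul]
  apply mat_inj
  ext i j
  fin_cases i <;> fin_cases j <;> simp [mat_mul, mat_dM, mat_lM, Matrix.mul_apply, Fin.sum_univ_two] <;>
    field_simp

theorem aM_conj_u (s : Kˣ) (t : K) : aM s * uM t * (aM s)⁻¹ = lM ((s : K) ^ 2 * t) := by
  rw [mul_inv_eq_iff_eq_mul]
  apply mat_inj
  ext i j
  fin_cases i <;> fin_cases j <;> simp [mat_mul, mat_aM, mat_uM, mat_lM, Matrix.mul_apply, Fin.sum_univ_two] <;>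
    field_simp

theorem aM_conj_l (s : Kˣ) (t : K) : aM s * lM t * (aM s)⁻¹ = uM (((s : K) ^ 2)⁻¹ * t) := by
  rw [mul_inv_eq_iff_eq_mul]
  apply mat_inj
  ext i j
  fin_cases i <;> fin_cases j <;> simp [mat_mul, mat_aM, mat_uM, mat_lM, Matrix.mul_apply, Fin.sum_univ_two] <;>
    field_simp

theorem uM_add (p t : K) : uM p * uM t = uM (p + t) := by
  apply mat_inj
  ext i j
  fin_cases i <;> fin_cases j <;> simp [mat_mul, mat_uM, Matrix.mul_apply, Fin.sum_univ_two, add_comm]

theorem uM_zero : uM (0 : K) = 1 := by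
  apply mat_inj
  rw [mat_one]
  ext i j
  fin_cases i <;> fin_cases j <;> simp [mat_uM]

theorem uM_one_ne : uM (1 : K) ≠ 1 := fun h => by
  have := congrFun (congrFun (congrArg mat h) 0) 1
  simp [mat_uM, mat_one] at this

theorem decomp {X : SL K} (hc : mat X 1 0 ≠ 0) :
    X = uM ((mat X 0 0 - 1) / mat X 1 0) * lM (mat X 1 0) * uM ((mat X 1 1 - 1) / mat X 1 0) := by
  have hd := mat_det X
  apply mat_inj
  rw [Matrix.eta_fin_two (mat X)]
  ext i j
  fin_cases i <;> fin_cases j <;>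
    simp [mat_mul, mat_uM, mat_lM, Matrix.mul_apply, Fin.sum_univ_two] <;> field_simp
  all_goals first | ring1 | linear_combination hd | linear_combination -hd

theorem hom_ext {G : Type*} [Group G] {φ φ' : SL K →* G} (hu : ∀ t, φ (uM t) = φ' (uM t))
    (hl : ∀ t, φ (lM t) = φ' (lM t)) : φ = φ' := by
  refine MonoidHom.ext fun X => ?_
  have key : ∀ X : SL K, mat X 1 0 ≠ 0 → φ X = φ' X := fun X hc => by
    rw [decomp hc, map_mul, map_mul, map_mul, map_mul, hu, hu, hl]
  by_cases hc : mat X 1 0 = 0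
  · have hd := mat_det X
    have h1 : mat (X * lM 1) 1 0 ≠ 0 := by
      have : mat X 1 1 ≠ 0 := fun h => by rw [hc, h] at hd; simp at hd
      simpa [mat_mul, mat_lM, Matrix.mul_apply, Fin.sum_univ_two, hc] using this
    have h2 := key _ h1
    rw [map_mul, map_mul, hl] at h2
    exact mul_right_cancel h2
  · exact key X hc

theorem central_eq_one {A : SL K} (h : ∀ X, A * X = X * A) : A = 1 := by
  have h1 := congrArg mat (h (uM 1))
  have h2 := congrArg mat (h (lM 1))
  rw [mat_mul, mat_mul] at h1 h2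
  have b0 : mat A 1 0 = 0 := by
    have := congrFun (congrFun h1 0) 0
    simpa [mat_uM, Matrix.mul_apply, Fin.sum_univ_two] using this
  have b1 : mat A 0 1 = 0 := by
    have := congrFun (congrFun h2 0) 0
    simpa [mat_lM, Matrix.mul_apply, Fin.sum_univ_two] using this
  have b2 : mat A 0 0 = mat A 1 1 := by
    have := congrFun (congrFun h1 0) 1
    simp [mat_uM, Matrix.mul_apply, Fin.sum_univ_two] at this
    linear_combination this
  have hd := mat_det A
  rw [b0, ← b2, mul_zero, sub_zero] at hd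
  have b3 : mat A 0 0 = 1 := by
    have h3 : (mat A 0 0 + 1) ^ 2 = 0 := by
      rw [CharTwo.add_sq, one_pow, pow_two, hd, CharTwo.add_self_eq_zero]
    exact CharTwo.add_eq_zero.1 (pow_eq_zero_iff two_ne_zero |>.1 h3)
  apply mat_inj
  rw [mat_one, Matrix.eta_fin_two (mat A)]
  ext i j
  fin_cases i <;> fin_cases j <;> simp [b0, b1, ← b2, b3]

theorem conj_inj {A B : SL K} (h : ∀ X, A * X * A⁻¹ = B * X * B⁻¹) : A = B := by
  have h1 : B⁻¹ * A = 1 := central_eq_one fun X => by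
    calc B⁻¹ * A * X = B⁻¹ * (A * X * A⁻¹) * A := by group
      _ = X * (B⁻¹ * A) := by rw [h]; group
  exact (inv_mul_eq_one.1 h1).symm

/-- The trace. -/
def tr (A : SL K) : K := mat A 0 0 + mat A 1 1

theorem tr_dM_conj (s : Kˣ) (A : SL K) : tr (dM s * A * (dM s)⁻¹) = tr A := by
  have e : (dM s)⁻¹ = dM s⁻¹ := by
    rw [inv_eq_iff_mul_eq_one]
    apply mat_inj
    rw [mat_one]
    ext i j
    fin_cases i <;> fin_cases j <;> simp [mat_mul, mat_dM, Matrix.mul_apply, Fin.sum_univ_two]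
  rw [e]
  have hs : (s : K) ≠ 0 := s.ne_zero
  rw [tr, tr, mat_mul, mat_mul, mat_dM, mat_dM]
  simp only [Matrix.mul_apply, Fin.sum_univ_two, Units.val_inv_eq_inv_val, inv_inv, Matrix.of_apply,
    Matrix.cons_val', Matrix.cons_val_zero, Matrix.cons_val_one, Matrix.cons_val_fin_one, Matrix.empty_val']
  field_simp
  ring

theorem eq_one_of_pow_five {A : SL K} (h5 : A ^ 5 = 1) (h8 : tr A ^ 8 = tr A) : A = 1 := by
  set τ := tr A with hτ
  set M := mat A with hM
  have hd := mat_det A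
  have two : (2 : K) = 0 := CharTwo.two_eq_zero
  have h2 : M * M = τ • M + 1 := by
    rw [← hM] at hd
    ext i j
    rw [Matrix.mul_apply, Fin.sum_univ_two, Matrix.add_apply, Matrix.smul_apply, smul_eq_mul, hτ, tr, ← hM]
    fin_cases i <;> fin_cases j <;> simp
    · linear_combination -hd - two
    · ring
    · ring
    · linear_combination -hd - two
  have h5' : mat (A ^ 5) = (τ ^ 4 + τ ^ 2 + 1) • M + τ ^ 3 • (1 : Matrix (Fin 2) (Fin 2) K) := by
    have e : A ^ 5 = A * A * (A * A) * A := by simp [pow_succ, mul_assoc]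
    rw [e, mat_mul, mat_mul, mat_mul, ← hM, h2]
    simp only [add_mul, mul_add, smul_mul_assoc, mul_smul_comm, one_mul, mul_one, h2, smul_add, smul_smul]
    ext i j
    simp only [Matrix.add_apply, Matrix.smul_apply, smul_eq_mul]
    linear_combination (τ ^ 2 * M i j + τ * (1 : Matrix (Fin 2) (Fin 2) K) i j) * two
  rw [h5, mat_one] at h5'
  by_cases hP : τ ^ 4 + τ ^ 2 + 1 = 0
  · exfalso
    have h6 : τ ^ 6 = 1 := by linear_combination (τ ^ 2 - 1) * hP
    have h7 : τ * (τ - 1) = 0 := by linear_combination h8 - τ ^ 2 * h6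
    rcases mul_eq_zero.1 h7 with h | h
    · simp [h] at hP
    · rw [sub_eq_zero.1 h] at hP
      simp [CharTwo.add_self_eq_zero] at hP
  · refine central_eq_one fun X => mat_inj ?_
    have hs : M = ((τ ^ 4 + τ ^ 2 + 1)⁻¹ * (1 - τ ^ 3)) • (1 : Matrix (Fin 2) (Fin 2) K) := by
      rw [← sub_eq_iff_eq_add, ← one_smul K (1 : Matrix (Fin 2) (Fin 2) K), smul_smul, mul_one, ← sub_smul] at h5'
      rw [← smul_smul, h5', smul_smul, inv_mul_cancel₀ hP, one_smul]
    rw [mat_mul, mat_mul, ← hM, hs]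
    simp

end Cfsg.Lib.E7TwoSixtyFive
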