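import Cfsg.Agent.E7TwoSixtyFive.Alg
import Cfsg.Agent.Chev.CyclicTorus.E7.Root

/-! Elements permuting three commuting rank one subgroups of a Chevalley group in characteristic two. -/

set_option autoImplicit false
set_option linter.unusedSectionVars false

open Cfsg.Lie Cfsg.Lib.Chev Cfsg.Lib.CyclicTorus

namespace Cfsg.Lib.E7TwoSixtyFive

variable {D : ChevalleyDatum} {C : Cert} {K : Type*} [Field K] [CharP K 2]

theorem xG_neg_mem_ne (S : Struct D C) {r : Fin D.nroots} (hr : D.nroots / 2 ≤ r.val) {c : K} (hc : c ≠ 0) (p : K) :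
    S.ok.xG (D.neg r.val) c ≠ S.ok.xG r.val p := by
  intro h
  obtain ⟨u, j, -, hm, hact⟩ := exists_act_root S r (inv_ne_zero hc)
  have e : S.ok.nG r.val c⁻¹ = S.ok.xG r.val (c⁻¹ + p + c⁻¹) := by
    show S.ok.xG r.val c⁻¹ * S.ok.xG (D.neg r.val) (-c⁻¹⁻¹) * S.ok.xG r.val c⁻¹ = _
    rw [inv_inv, CharTwo.neg_eq, h, S.ok.xG_mul, S.ok.xG_mul]
  have hU : S.ok.xG r.val (c⁻¹ + p + c⁻¹) ∈ D.posUnipotent K := by
    rw [S.posUnipotent_eq]; exact S.xG_mem_Ugen hr r.isLt _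
  have h1 : S.ok.nG r.val c⁻¹ = 1 := by
    rw [← Subgroup.mem_bot, ← S.U_inf_N]
    exact ⟨e ▸ hU, hm⟩
  rw [h1] at hact
  have h2 : S.wp j = 1 := conj_eq_one_iff.1 (S.act_unique hact S.act_one)
  have h3 := congrArg Fin.val (Equiv.congr_fun h2 (S.sp j))
  rw [Struct.wp_val, show ((S.sp j : Fin D.nroots) : ℕ) = C.sr j.val from rfl] at h3
  obtain ⟨e1, -, e2, -⟩ := S.ok.refl_simple j.isLt
  rw [e1] at h3
  have hlt := S.ok.sr_lt j.isLt
  obtain ⟨hp, hn, hpn⟩ := S.ok.pos_or_neg hlt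
  replace h3 : C.neg (C.sr j.val) = C.sr j.val := h3
  rw [h3] at hpn
  omega

theorem hom_injective (S : Struct D C) {r : Fin D.nroots} (hr : D.nroots / 2 ≤ r.val) {φ : SL K →* GL D.Idx K}
    (hu : ∀ t, φ (uM t) = S.ok.xG r.val t) (hl : ∀ t, φ (lM t) = S.ok.xG (D.neg r.val) t) :
    Function.Injective φ := by
  rw [injective_iff_map_eq_one]
  intro X hX
  have hd := mat_det X
  by_cases hc : mat X 1 0 = 0
  · rw [hc, mul_zero, sub_zero] at hd
    have e : X * uM 1 = uM (mat X 0 0 ^ 2) * X := by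
      apply mat_inj
      rw [mat_mul, mat_mul, mat_uM, mat_uM, Matrix.eta_fin_two (mat X)]
      ext i j
      fin_cases i <;> fin_cases j <;> simp [Matrix.mul_apply, Fin.sum_univ_two, hc]
      linear_combination -(mat X 0 0) * hd
    have h1 := congrArg φ e
    rw [map_mul, map_mul, hX, one_mul, mul_one, hu, hu] at h1
    have h2 := S.xG_left_inj r.isLt h1
    have ha : mat X 0 0 = 1 := by
      have h3 : (mat X 0 0 + 1) ^ 2 = 0 := by
        rw [CharTwo.add_sq, one_pow, ← h2, CharTwo.add_self_eq_zero]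
      exact CharTwo.add_eq_zero.1 (pow_eq_zero_iff two_ne_zero |>.1 h3)
    rw [ha, one_mul] at hd
    have e2 : X = uM (mat X 0 1) := by
      apply mat_inj
      rw [mat_uM, Matrix.eta_fin_two (mat X)]
      ext i j
      fin_cases i <;> fin_cases j <;> simp [hc, ha, hd]
    rw [e2, hu, ← S.xG_zero r.val] at hX
    rw [e2, S.xG_left_inj r.isLt hX, uM_zero]
  · exfalso
    set p := (mat X 0 0 - 1) / mat X 1 0
    set q := (mat X 1 1 - 1) / mat X 1 0
    rw [decomp hc, map_mul, map_mul, hu, hu, hl] at hX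
    refine xG_neg_mem_ne S hr hc (-p + -q) ?_
    have ix : ∀ t : K, (S.ok.xG r.val t)⁻¹ = S.ok.xG r.val (-t) := fun t =>
      (eq_inv_of_mul_eq_one_right (by rw [S.ok.xG_mul, add_neg_cancel, S.xG_zero])).symm
    rw [← S.ok.xG_mul, ← ix, ← ix]
    rw [← eq_inv_mul_of_mul_eq (mul_eq_one_iff_eq_inv.1 hX)]

/-- Three pairwise commuting copies of `SL₂` on given roots. -/
structure Blocks (S : Struct D C) (K : Type*) [Field K] (b : Fin 3 → Fin D.nroots) where
  ψ : Fin 3 → SL K →* GL D.Idx K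
  pos : ∀ i, D.nroots / 2 ≤ (b i).val
  hu : ∀ i t, ψ i (uM t) = S.ok.xG (b i).val t
  hl : ∀ i t, ψ i (lM t) = S.ok.xG (D.neg (b i).val) t
  comm : ∀ i j, i ≠ j → ∀ X Y, Commute (ψ i X) (ψ j Y)

theorem exists_blocks (S : Struct D C) (b : Fin 3 → Fin D.nroots) (hpos : ∀ i, D.nroots / 2 ≤ (b i).val)
    (hcomm : ∀ i j, i ≠ j → ∀ a ∈ [(b i).val, D.neg (b i).val], ∀ c ∈ [(b j).val, D.neg (b j).val],
      ∀ t u : K, Commute (S.ok.xG a t) (S.ok.xG c u)) : Nonempty (Blocks S K b) := by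
  choose ψ hu hl hr using fun i => S.hasSL2 (F := K) (b i).val (b i).isLt
  refine ⟨⟨ψ, hpos, hu, hl, fun i j hij X Y => ?_⟩⟩
  have hX : ψ i X ∈ (ψ i).range := ⟨X, rfl⟩
  have hY : ψ j Y ∈ (ψ j).range := ⟨Y, rfl⟩
  rw [hr] at hX hY
  have h1 : Subgroup.closure (Set.range (S.ok.xG (F := K) (b j).val) ∪ Set.range (S.ok.xG (D.neg (b j).val))) ≤
      Subgroup.centralizer (Set.range (S.ok.xG (F := K) (b i).val) ∪ Set.range (S.ok.xG (D.neg (b i).val))) := by
    refine (Subgroup.closure_le _).2 ?_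
    rintro _ (⟨u, rfl⟩ | ⟨u, rfl⟩) <;> refine Subgroup.mem_centralizer_iff.2 ?_ <;>
      rintro _ (⟨t, rfl⟩ | ⟨t, rfl⟩) <;> exact hcomm i j hij _ (by simp) _ (by simp) t u
  have h2 : Subgroup.closure (Set.range (S.ok.xG (F := K) (b i).val) ∪ Set.range (S.ok.xG (D.neg (b i).val))) ≤
      Subgroup.centralizer {ψ j Y} := by
    refine (Subgroup.closure_le _).2 fun z hz => Subgroup.mem_centralizer_singleton_iff.2 ?_
    exact Subgroup.mem_centralizer_iff.1 (h1 hY) z hz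
  exact Subgroup.mem_centralizer_singleton_iff.1 (h2 hX)

variable {S : Struct D C} {b : Fin 3 → Fin D.nroots} (B : Blocks S K b)

theorem Blocks.inj (i : Fin 3) : Function.Injective (B.ψ i) := hom_injective S (B.pos i) (B.hu i) (B.hl i)

theorem Blocks.sep {i j : Fin 3} {X Y : SL K} (h : B.ψ i X = B.ψ j Y) (hij : i ≠ j) : X = 1 :=
  central_eq_one fun Z => B.inj i (by rw [map_mul, map_mul, h]; exact (B.comm i j hij Z Y).symm.eq)

/-- The element sends the block `i` to the block `j` by conjugation with `A`. -/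
def Blocks.Maps (z : GL D.Idx K) (i j : Fin 3) (A : SL K) : Prop :=
  ∀ X, z * B.ψ i X * z⁻¹ = B.ψ j (A * X * A⁻¹)

theorem Blocks.maps_mul {z z' : GL D.Idx K} {i j k : Fin 3} {A A' : SL K} (h' : B.Maps z' i j A')
    (h : B.Maps z j k A) : B.Maps (z * z') i k (A * A') := fun X => by
  rw [show z * z' * B.ψ i X * (z * z')⁻¹ = z * (z' * B.ψ i X * z'⁻¹) * z⁻¹ by group, h', h]
  group

theorem Blocks.maps_unique {z : GL D.Idx K} {i j j' : Fin 3} {A A' : SL K} (h : B.Maps z i j A)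
    (h' : B.Maps z i j' A') : j = j' ∧ A = A' := by
  have e : j = j' := by
    by_contra hne
    have h1 := B.sep (X := A * uM 1 * A⁻¹) (Y := A' * uM 1 * A'⁻¹) (by rw [← h, ← h']) hne
    rw [conj_eq_one_iff] at h1
    exact uM_one_ne h1
  subst e
  exact ⟨rfl, conj_inj fun X => B.inj j (by rw [← h, ← h'])⟩

theorem Blocks.maps_of_gens {z : GL D.Idx K} {i j : Fin 3} {A : SL K}
    (hu : ∀ t, z * S.ok.xG (b i).val t * z⁻¹ = B.ψ j (A * uM t * A⁻¹))
    (hl : ∀ t, z * S.ok.xG (D.neg (b i).val) t * z⁻¹ = B.ψ j (A * lM t * A⁻¹)) : B.Maps z i j A := by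
  intro X
  exact DFunLike.congr_fun (hom_ext (φ := (MulAut.conj z).toMonoidHom.comp (B.ψ i))
    (φ' := (B.ψ j).comp (MulAut.conj A).toMonoidHom)
    (fun t => by simpa [B.hu] using hu t) (fun t => by simpa [B.hl] using hl t)) X

/-- The product of the three positive root subgroups. -/
def Blocks.vhom : Multiplicative (Fin 3 → K) →* GL D.Idx K :=
  MonoidHom.mk' (fun t => B.ψ 0 (uM (t.toAdd 0)) * B.ψ 1 (uM (t.toAdd 1)) * B.ψ 2 (uM (t.toAdd 2))) fun s t => by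
    simp only [toAdd_mul, Pi.add_apply, ← uM_add, map_mul]
    have c01 := (B.comm 1 0 (by decide) (uM (s.toAdd 1)) (uM (t.toAdd 0))).eq
    have c02 := (B.comm 2 0 (by decide) (uM (s.toAdd 2)) (uM (t.toAdd 0))).eq
    have c12 := (B.comm 2 1 (by decide) (uM (s.toAdd 2)) (uM (t.toAdd 1))).eq
    simp only [mul_assoc]
    congr 1
    rw [← mul_assoc (B.ψ 2 (uM (s.toAdd 2))) (B.ψ 0 (uM (t.toAdd 0))), c02, mul_assoc,
      ← mul_assoc (B.ψ 1 (uM (s.toAdd 1))) (B.ψ 0 (uM (t.toAdd 0))), c01, mul_assoc]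
    congr 2
    rw [← mul_assoc (B.ψ 2 (uM (s.toAdd 2))) (B.ψ 1 (uM (t.toAdd 1))), c12, mul_assoc]

theorem Blocks.vhom_single (i : Fin 3) (t : K) :
    B.vhom (Multiplicative.ofAdd (Pi.single i t)) = B.ψ i (uM t) := by
  fin_cases i <;> simp [Blocks.vhom, uM_zero]

theorem Blocks.maps_vhom (t : Multiplicative (Fin 3 → K)) (i : Fin 3) :
    B.Maps (B.vhom t) i i (uM (t.toAdd i)) := by
  have h1 : ∀ (k : Fin 3) (s : K), B.Maps (B.ψ k (uM s)) i i (if k = i then uM s else 1) := fun k s X => by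
    by_cases hk : k = i
    · subst hk; rw [if_pos rfl, ← map_inv, ← map_mul, ← map_mul]
    · rw [if_neg hk, (B.comm k i hk _ X).eq, one_mul, inv_one, mul_one, mul_inv_cancel_right]
  have h := B.maps_mul (h1 2 (t.toAdd 2)) (B.maps_mul (h1 1 (t.toAdd 1)) (h1 0 (t.toAdd 0)))
  convert h using 1
  · show B.ψ 0 _ * B.ψ 1 _ * B.ψ 2 _ = _
    rfl
  · fin_cases i <;> simp

theorem Blocks.maps_act {n : GL D.Idx K} {π : Equiv.Perm (Fin D.nroots)} (hact : Act S.ok n π) (i j : Fin 3)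
    (hπn : ∀ hr, (π ⟨D.neg (b i).val, hr⟩).val = D.neg (π (b i)).val)
    (hsq : ∀ c : K, ∃ s, s ^ 2 = c) (hij : π (b i) = b j ∨ (π (b i)).val = D.neg (b j).val) :
    ∃ s : Kˣ, B.Maps n i j (if π (b i) = b j then dM s else aM s) := by
  obtain ⟨hnr, -⟩ := S.neg_neg' (b i).isLt
  obtain ⟨c, hc, e, e'⟩ := act_coef S hact (b i) ⟨_, hnr⟩ rfl (hπn hnr)
  obtain ⟨s, hs⟩ := hsq c
  have hs0 : s ≠ 0 := fun h => hc (by rw [← hs, h]; simp)
  refine ⟨Units.mk0 s hs0, ?_⟩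
  by_cases hp : π (b i) = b j
  · rw [if_pos hp]
    refine B.maps_of_gens (fun t => ?_) fun t => ?_
    · rw [dM_conj_u, B.hu, e, hp, Units.val_mk0, hs]
    · rw [dM_conj_l, B.hl, e', hπn hnr, hp, Units.val_mk0, hs]
  · have hp' := hij.resolve_left hp
    rw [if_neg hp]
    refine B.maps_of_gens (fun t => ?_) fun t => ?_
    · rw [aM_conj_u, B.hl, e, hp', Units.val_mk0, hs]
    · rw [aM_conj_l, B.hu, e', hπn hnr, hp', (S.neg_neg' (b j).isLt).2, Units.val_mk0, hs]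

end Cfsg.Lib.E7TwoSixtyFive
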