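import Cfsg.Agent.E7TwoSixtyFive.Torus
import Cfsg.Agent.Chev.CyclicTorus.E7.Main
import Cfsg.Agent.Chev.St.CenterData
import Cfsg.Agent.S1064

/-! The group `E₇(2)` has no element of order sixty-five. -/

set_option autoImplicit false
set_option linter.unusedSectionVars false
set_option linter.style.haveILetI false
set_option maxHeartbeats 1600000
set_option maxRecDepth 4000

open Cfsg.Lie Matrix

namespace Cfsg.Lib.E7TwoSixtyFive

open Cfsg.Lib.Chev Cfsg.Lib.CyclicTorus Cfsg.Lib.CyclicTorus.E7T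

theorem uni_e7 : okUni chevE7 [[4, 4, 6, 8, 6, 4, 2], [4, 7, 8, 12, 9, 6, 3],
    [6, 8, 12, 16, 12, 8, 4], [8, 12, 16, 24, 18, 12, 6], [6, 9, 12, 18, 15, 10, 5], [4, 6, 8, 12, 10, 8, 4],
    [2, 3, 4, 6, 5, 4, 3]] 2 = true := by decide +kernel

theorem uni_e6 : okUni chevE6 [[4, 3, 5, 6, 4, 2], [3, 6, 6, 9, 6, 3],
    [5, 6, 10, 12, 8, 4], [6, 9, 12, 18, 12, 6], [4, 6, 8, 12, 10, 5], [2, 3, 4, 6, 5, 4]] 3 = true := by
  decide +kernel


theorem prim_two : orderOf (2 : ZMod 13) = 12 := by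
  have h12 : (2 : ZMod 13) ^ 12 = 1 := by decide +kernel
  rw [orderOf_eq_iff (by norm_num)]
  exact ⟨h12, by decide +kernel⟩

theorem exists_thirteen : ∃ x : ↥(chevE7.group (ZMod 2)), orderOf x = 13 ∧
    ∀ f : ↥(chevE7.group (ZMod 2)), f ^ 5 = 1 → f * x = x * f → f = 1 := by
  classical
  haveI : Fact (Nat.Prime 13) := ⟨by norm_num⟩
  haveI : NeZero 12 := ⟨by norm_num⟩
  let X6 : Emb chevE6 E6.cert chevE7 E7.cert :=
    { S := E6.struct, hN := okNeg_E6, ok := ⟨_, St.okSt_E6⟩, S' := E7.struct, io := _, hio := St.okEmb_E6,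
      d := 3, k := _, v := _, w := _, B := _, ht := St.okTorus_E6, p := _, hp := St.okCol_E6,
      hcart := by decide +kernel }
  obtain ⟨a, hU⟩ := exists_uni uni_e7
  obtain ⟨a6, hU6⟩ := exists_uni uni_e6
  let K := FiniteField.Extension (ZMod 2) 2 12
  haveI : Fintype K := Fintype.ofFinite K
  haveI : CharP K 2 := charP_of_injective_algebraMap (algebraMap (ZMod 2) K).injective 2
  have hK : Fintype.card K = 2 ^ 12 := by
    rw [← Nat.card_eq_fintype_card, FiniteField.natCard_extension, Nat.card_zmod]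
  obtain ⟨ζ, hgen⟩ := IsCyclic.exists_generator (α := Kˣ)
  have hζ : orderOf ζ = 4095 := by
    rw [orderOf_eq_card_of_forall_mem_zpowers hgen, Nat.card_units, Nat.card_eq_fintype_card, hK]; norm_num
  let σ : K →+* K := (FiniteField.frobeniusAlgHom (ZMod 2) K).toRingHom
  have hσ : ∀ z, σ z = z ^ 2 := fun z => by simp [σ, ZMod.card]
  have hσ' : ∀ z, σ z = z ^ Fintype.card (ZMod 2) := fun z => by rw [ZMod.card, hσ]
  have hσF : ∀ b : ZMod 2, σ (algebraMap (ZMod 2) K b) = algebraMap (ZMod 2) K b := fun b => by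
    rw [hσ, ← map_pow]
    congr 1
    exact ZMod.pow_card b
  have hfix : ∀ z : K, σ z = z → ∃ u : ZMod 2, algebraMap (ZMod 2) K u = z := by
    intro z hz
    have h : z * (z - 1) = 0 := by
      rw [mul_sub, mul_one, ← pow_two, ← hσ, hz, sub_self]
    rcases mul_eq_zero.1 h with h | h
    · exact ⟨0, by rw [map_zero, h]⟩
    · exact ⟨1, by rw [map_one, sub_eq_zero.1 h]⟩
  have hprim : IsPrimitiveRoot ((Fintype.card (ZMod 2) : ℤ) : ZMod 13) 12 := by
    rw [ZMod.card, ← prim_two]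
    exact IsPrimitiveRoot.orderOf _
  have hinj : Function.Injective (Ok.tG chevE7 K) := by
    rw [injective_iff_map_eq_one]
    intro c hc
    obtain ⟨hk, hiff⟩ := St.torus_ker (F := K) E7.struct.ok St.okTorus_E7
    obtain ⟨hz, hv⟩ := (hiff c).1 hc
    have h1 : c ⟨1, hk⟩ = 1 := by
      refine Units.ext ?_
      have h2 := congrArg Units.val hz
      rw [Units.val_pow_eq_pow_val, Units.val_one] at h2
      have h3 : ((c ⟨1, hk⟩ : Kˣ) : K) ^ 2 = (1 : K) ^ 2 := by rw [one_pow]; exact h2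
      rw [Units.val_one]
      exact (CharTwo.sq_inj).1 h3
    funext i
    rw [hv i, h1, _root_.one_zpow]
    rfl
  have hW6 : ¬ 13 ∣ Nat.card ↥E6.struct.WG := by
    rw [show Nat.card ↥E6.struct.WG = 51840 from
      by exact_mod_cast (E6.struct.natCard_WG E6.poincare).trans E6.weylCard]
    norm_num
  obtain ⟨g6, hg6, L6, c6, y, w, hw, en6, heig, hchar, hreg6⟩ := exists_twist_e6 X6 hU6 (e6Facts okE6_chevE6) rfl
    (F := ZMod 2) (K := K) E6.poincare rfl (by simp) hprim hW6 (fun e he => by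
      simp only [List.mem_cons, List.not_mem_nil, or_false] at he
      rcases he with rfl | rfl | rfl | rfl | rfl | rfl <;> norm_num)
    (by norm_num) (by rw [hK, ZMod.card]) σ hσ' hσF
  let S := E7.struct
  let M6 := matW X6.S hU6 w
  let w6' : ↥X6.S.WG := ⟨X6.S.wpL L6, X6.S.wpL_mem_WG L6⟩
  have hww : w = w6'⁻¹ := Subtype.ext hw
  have h6i : ∀ z, matL chevE6 L6 *ᵥ (M6 *ᵥ z) = z := fun z => by
    show matL chevE6 L6 *ᵥ (matW X6.S hU6 w *ᵥ z) = z
    rw [← matW_eq X6.S hU6 w6' (L := L6) rfl, Matrix.mulVec_mulVec, ← map_mul, hww, mul_inv_cancel, map_one,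
      Matrix.one_mulVec]
  have hdet6 : ∀ b : ℤ, (Matrix.scalar (Fin chevE6.rank) b - M6).det =
      (Polynomial.cyclotomic 12 ℤ).eval b * (Polynomial.cyclotomic 3 ℤ).eval b := fun b => by
    rw [← Polynomial.eval_mul, ← hchar, Matrix.eval_charpoly]
  have h1 : ∀ v : Fin chevE6.rank → ℤ, matL chevE6 L6 *ᵥ v = v → v = 0 := fun v hv => by
    by_contra hv0
    have hM : M6 *ᵥ v = v := by
      conv_lhs => rw [← hv]
      show matW X6.S hU6 w *ᵥ (matL chevE6 L6 *ᵥ v) = v
      rw [← matW_eq X6.S hU6 w6' (L := L6) rfl, Matrix.mulVec_mulVec, ← map_mul, hww, inv_mul_cancel, map_one,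
        Matrix.one_mulVec]
    have h := hdet6 1
    rw [eval_cyclotomic_twelve, eval_three, map_one] at h
    rw [Matrix.exists_mulVec_eq_zero_iff.1 ⟨v, hv0, by rw [Matrix.sub_mulVec, Matrix.one_mulVec, hM, sub_self]⟩] at h
    norm_num at h
  set L := L6.map up with hLd
  set y' := extZ chevE6.rank chevE7.rank y with hy'
  have hext : ∀ z, matL chevE7 L *ᵥ extZ chevE6.rank chevE7.rank z =
      extZ chevE6.rank chevE7.rank (matL chevE6 L6 *ᵥ z) := by
    rw [hLd]
    generalize L6 = M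
    induction M with
    | nil => intro z; simp [matL]
    | cons i M ih =>
      intro z
      rw [List.map_cons, show matL chevE7 (up i :: M.map up) = Rm chevE7 (up i) * matL chevE7 (M.map up) by simp [matL],
        show matL chevE6 (i :: M) = Rm chevE6 i * matL chevE6 M by simp [matL], ← Matrix.mulVec_mulVec, ih,
        ← Matrix.mulVec_mulVec]
      exact X6.extZ_Rm i _
  let wπ : ↥S.WG := ⟨S.wpL L, S.wpL_mem_WG L⟩
  let M0 := matW S hU wπ⁻¹
  have hM0i : ∀ z, M0 *ᵥ (matL chevE7 L *ᵥ z) = z := fun z => by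
    show matW S hU wπ⁻¹ *ᵥ (matL chevE7 L *ᵥ z) = z
    rw [← matW_eq S hU wπ (L := L) rfl, Matrix.mulVec_mulVec, ← map_mul, inv_mul_cancel, map_one, Matrix.one_mulVec]
  have hLM0 : ∀ z, matL chevE7 L *ᵥ (M0 *ᵥ z) = z := fun z => by
    show matL chevE7 L *ᵥ (matW S hU wπ⁻¹ *ᵥ z) = z
    rw [← matW_eq S hU wπ (L := L) rfl, Matrix.mulVec_mulVec, ← map_mul, mul_inv_cancel, map_one, Matrix.one_mulVec]
  have hM0ext : ∀ z, M0 *ᵥ extZ chevE6.rank chevE7.rank z = extZ chevE6.rank chevE7.rank (M6 *ᵥ z) := fun z => by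
    conv_lhs => rw [← h6i z, ← hext]
    rw [hM0i]
  have heig' : ∀ i, ((M0 *ᵥ y') i : ZMod 13) = ((2 : ℤ) : ZMod 13) * (y' i : ZMod 13) := fun i => by
    rw [hy', hM0ext]
    unfold extZ
    split_ifs with h
    · rw [heig ⟨i.val, h⟩, ZMod.card]; rfl
    · simp
  have hy7 : ∀ s, (chiZ chevE7 (S.wpL L s) y' : ZMod 13) =
      ((Fintype.card (ZMod 2) : ℤ) : ZMod 13) * (chiZ chevE7 s y' : ZMod 13) := by
    intro s
    rw [ZMod.card, show (((2 : ℕ) : ℤ) : ZMod 13) = ((2 : ℤ) : ZMod 13) from rfl]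
    have e := chiZ_wpL S L s (M0 *ᵥ y')
    rw [hLM0] at e
    rw [e]
    simp only [chiZ, Int.cast_sum, Int.cast_mul, heig', Finset.mul_sum]
    exact Finset.sum_congr rfl fun i _ => by ring
  obtain ⟨b₀, b₁, b₂, T⟩ := exists_triple hprim hU6 X6 L6 h1 hreg6 hy7
  obtain ⟨G6, hG6⟩ : g6 ∈ (X6.th (K := K)).range := by rw [X6.range_th]; exact hg6
  set nn := G6⁻¹ * sig σ chevE6 G6 with hnn
  obtain ⟨-, c₂, -, ec₂⟩ := X6.ker_th (g := nn * ((X6.pres (K := K)).nLb L6)⁻¹ * (X6.tor c6)⁻¹) (by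
    rw [map_mul, map_mul, map_inv, map_inv, hnn, map_mul, map_inv, X6.th_sig, hG6, X6.th_tor, X6.th_nLb, en6]
    group)
  have en7 : (X6.th' G6)⁻¹ * phiG σ chevE7 (X6.th' G6) =
      Ok.tG chevE7 K (St.extTorus K chevE6.rank chevE7.rank (c₂ * c6)) * S.nL K L := by
    rw [← X6.th'_sig, ← map_inv, ← map_mul, ← hnn, ← X6.th'_tor, hLd, show S.nL K (L6.map up) = X6.th' _ from
      (th'_nLb X6 L6).symm, ← map_mul, map_mul (X6.tor), ec₂]
    congr 1
    group
  set g := X6.th' G6 with hgd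
  have hg : g ∈ chevE7.group K := th'_mem X6 G6
  set t := te chevE7 ζ ((315 : ℤ) • y') with htd
  have hy0 : ∃ i, (y' i : ZMod 13) ≠ 0 := by
    by_contra hno
    push Not at hno
    have h0 := hreg6 ⟨0, by decide +kernel⟩
    rw [← chiZ_io] at h0
    exact h0 (by simp [chiZ, show ∀ i, ((extZ chevE6.rank chevE7.rank y i : ℤ) : ZMod 13) = 0 from hno])
  have htfix : phiG σ chevE7 (g * t * g⁻¹) = g * t * g⁻¹ := by
    have e1 : phiG σ chevE7 t = te chevE7 ζ ((2 : ℤ) • (315 : ℤ) • y') := by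
      rw [htd, te, te, phiG_tG σ hσ]
      congr 1
      funext i
      simp only [Pi.pow_apply, zc, Pi.smul_apply, smul_eq_mul]
      rw [← zpow_natCast, ← _root_.zpow_mul, mul_comm]
      rfl
    have e2 : te chevE7 ζ (matL chevE7 L *ᵥ ((2 : ℤ) • (315 : ℤ) • y')) = t := by
      refine te_congr ζ hζ fun i => ?_
      have h13 : ((matL chevE7 L *ᵥ ((2 : ℤ) • y')) i : ZMod 13) = (y' i : ZMod 13) := by
        have h1 := congrFun (red_mulVec 13 (matL chevE7 L) (M0 *ᵥ y')) i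
        rw [hLM0, funext heig'] at h1
        rw [← h1]
        have h2 := congrFun (red_mulVec 13 (matL chevE7 L) ((2 : ℤ) • y')) i
        rw [← h2]
        congr 2
        funext j
        simp
      rw [smul_comm, Matrix.mulVec_smul, Pi.smul_apply, Pi.smul_apply, smul_eq_mul, smul_eq_mul,
        ZMod.intCast_eq_intCast_iff_dvd_sub]
      rw [ZMod.intCast_eq_intCast_iff_dvd_sub] at h13
      push_cast at h13 ⊢
      omega
    rw [map_mul, map_mul, map_inv, e1, show phiG σ chevE7 g = g * (g⁻¹ * phiG σ chevE7 g) by group, en7]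
    conv_rhs => rw [← e2, ← nL_conj_te S ζ L]
    have hdd : Ok.tG chevE7 K (St.extTorus K chevE6.rank chevE7.rank (c₂ * c6)) ∈ chevE7.diagonalSubgroup K := by
      rw [S.ok.diagonalSubgroup_eq]; exact ⟨_, rfl⟩
    have hc := diag_comm S hdd (te_mem S ζ (matL chevE7 L *ᵥ ((2 : ℤ) • (315 : ℤ) • y')))
    rw [← nL_conj_te S ζ L] at hc
    generalize Ok.tG chevE7 K (St.extTorus K chevE6.rank chevE7.rank (c₂ * c6)) = dd at hc ⊢
    generalize te chevE7 ζ ((2 : ℤ) • (315 : ℤ) • y') = t' at hc ⊢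
    generalize S.nL K L = m at hc ⊢
    calc g * (dd * m) * t' * (g * (dd * m))⁻¹ = g * (dd * (m * t' * m⁻¹)) * dd⁻¹ * g⁻¹ := by group
      _ = g * (m * t' * m⁻¹) * g⁻¹ := by rw [hc]; group
  obtain ⟨x, hx, hxe⟩ := mem_range_of_fixed S okNeg_E7 σ hσ hfix hinj
    (mul_mem (mul_mem hg (S.diag_le_group (te_mem S ζ _))) (inv_mem hg)) htfix
  have ht13 : t ^ 13 = 1 := by
    have h0 : te chevE7 ζ (0 : Fin chevE7.rank → ℤ) = (1 : GL chevE7.Idx K) := by
      rw [te, show zc ζ (0 : Fin chevE7.rank → ℤ) = 1 from funext fun i => _root_.zpow_zero ζ, map_one]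
    have h1 : t ^ 13 = te chevE7 ζ ((13 : ℤ) • (315 : ℤ) • y') := by
      rw [htd, te, te, ← map_pow]
      refine congrArg (Ok.tG chevE7 K) (funext fun i => ?_)
      simp only [Pi.pow_apply, zc, Pi.smul_apply, smul_eq_mul]
      rw [← zpow_natCast, ← _root_.zpow_mul, mul_comm]
      rfl
    rw [h1, ← h0]
    refine te_congr ζ hζ fun i => ?_
    rw [Pi.zero_apply, Int.cast_zero, ZMod.intCast_zmod_eq_zero_iff_dvd, Pi.smul_apply, Pi.smul_apply, smul_eq_mul,
      smul_eq_mul]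
    omega
  have ht1 : t ≠ 1 := by
    intro h
    obtain ⟨i, hi⟩ := hy0
    have h0 : te chevE7 ζ (0 : Fin chevE7.rank → ℤ) = (1 : GL chevE7.Idx K) := by
      rw [te, show zc ζ (0 : Fin chevE7.rank → ℤ) = 1 from funext fun i => _root_.zpow_zero ζ, map_one]
    have h2 := (te_eq_iff ζ hζ hinj).1 (h.trans h0.symm) i
    rw [Pi.zero_apply, Int.cast_zero, ZMod.intCast_zmod_eq_zero_iff_dvd, Pi.smul_apply, smul_eq_mul] at h2
    refine hi ((ZMod.intCast_zmod_eq_zero_iff_dvd _ _).2 ?_)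
    omega
  refine ⟨⟨x, hx⟩, orderOf_eq_prime (Subtype.ext (iota_injective (K := K) ?_)) ?_, fun f hf5 hfx => ?_⟩
  · rw [SubmonoidClass.coe_pow, map_pow, OneMemClass.coe_one, map_one]
    show iota (K := K) chevE7 x ^ 13 = 1
    rw [hxe, conj_pow, ht13, mul_one, mul_inv_cancel]
  · intro h
    refine ht1 ?_
    have h2 : iota (K := K) chevE7 x = 1 := by rw [show x = 1 from congrArg Subtype.val h, map_one]
    rw [hxe, mul_inv_eq_one, mul_eq_left] at h2
    exact h2
  · refine Subtype.ext (iota_injective (K := K) ?_)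
    rw [OneMemClass.coe_one, map_one]
    refine eq_one_of_centralises hK σ hσ hinj hζ hgen hU hg en7 M0 hM0i ?_ T hy0 (iota_group S f.2)
      ((phiG_eq_self σ).2 fun i j => hσF _) ?_ ?_
    · rw [det_block (fun t => ?_) hM0ext, hdet6, eval_cyclotomic_twelve, eval_three]
      · norm_num
      · have h : ∀ (M : List (Fin chevE6.rank)) (t : Fin chevE7.rank → ℤ),
            (matL chevE7 (M.map up) *ᵥ t) ⟨6, by decide +kernel⟩ = t ⟨6, by decide +kernel⟩ := by
          intro M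
          induction M with
          | nil => intro t; simp [matL]
          | cons i M ih =>
            intro t
            rw [List.map_cons, show matL chevE7 (up i :: M.map up) = Rm chevE7 (up i) * matL chevE7 (M.map up) by
              simp [matL], ← Matrix.mulVec_mulVec, Rm_mulVec, Pi.sub_apply, ih, Pi.single_eq_of_ne, sub_zero]
            intro e
            have h6 : (6 : ℕ) = i.val := congrArg Fin.val e
            have hi : i.val < 6 := i.isLt
            omega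
        conv_rhs => rw [← hLM0 t, hLd, h]
    · rw [← map_pow, ← SubmonoidClass.coe_pow, hf5, OneMemClass.coe_one, map_one]
    · rw [← hxe, ← map_mul, ← map_mul]
      have hfx' : ((f : ↥(chevE7.group (ZMod 2))) : GL chevE7.Idx (ZMod 2)) * x = x * (f : GL chevE7.Idx (ZMod 2)) := by
        have h := Subtype.ext_iff.1 hfx
        simpa only [Subgroup.coe_mul] using h
      rw [hfx']

theorem not_dvd_index_thirteen : (Nat.card ↥(chevE7.group (ZMod 2))).factorization 13 = 1 := by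
  have h := Cfsg.Agent.S1064.result (F := ZMod 2) (q := 2) (ZMod.card 2)
  have h2 : Nat.card ↥(chevE7.group (ZMod 2)) = 13 * 615190464775061519930806712513907916800 := by norm_num at h ⊢; exact h
  rw [h2, Nat.factorization_mul (by norm_num) (by norm_num),
    Finsupp.add_apply, Nat.Prime.factorization_self (by norm_num),
    Nat.factorization_eq_zero_of_not_dvd (by norm_num)]

theorem orderOf_ne_of_thirteen {G : Type*} [Group G] [Finite G] (hfac : (Nat.card G).factorization 13 = 1)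
    (hT : ∃ x : G, orderOf x = 13 ∧ ∀ f : G, f ^ 5 = 1 → f * x = x * f → f = 1) (g : G) : orderOf g ≠ 65 := by
  intro hg
  haveI : Fact (Nat.Prime 13) := ⟨by norm_num⟩
  obtain ⟨x, hx, hC⟩ := hT
  have hh : orderOf (g ^ 5) = 13 := by rw [orderOf_pow, hg]; norm_num
  have hf : orderOf (g ^ 13) = 5 := by rw [orderOf_pow, hg]; norm_num
  let P : Sylow 13 G := Sylow.ofCard (Subgroup.zpowers (g ^ 5))
    (by rw [Nat.card_zpowers, hh, hfac, pow_one])
  let Q : Sylow 13 G := Sylow.ofCard (Subgroup.zpowers x)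
    (by rw [Nat.card_zpowers, hx, hfac, pow_one])
  obtain ⟨k, hk⟩ := MulAction.exists_smul_eq G P Q
  have hmem : x ∈ (Q : Subgroup G) := Subgroup.mem_zpowers x
  rw [← hk, Sylow.coe_subgroup_smul, Subgroup.mem_pointwise_smul_iff_inv_smul_mem] at hmem
  obtain ⟨j, hj⟩ := Subgroup.mem_zpowers_iff.1 hmem
  have hxj : x = k * (g ^ 5) ^ j * k⁻¹ := by
    rw [hj]
    rw [← map_inv, MulAut.smul_def, MulAut.conj_apply]
    group
  have hcomm : Commute (g ^ 13) ((g ^ 5) ^ j) := ((Commute.refl g).pow_pow 13 5).zpow_right j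
  have h1 := hC (k * g ^ 13 * k⁻¹) (by rw [conj_pow, ← hf, pow_orderOf_eq_one, mul_one, mul_inv_cancel]) (by
    rw [hxj]
    calc k * g ^ 13 * k⁻¹ * (k * (g ^ 5) ^ j * k⁻¹) = k * (g ^ 13 * (g ^ 5) ^ j) * k⁻¹ := by group
      _ = k * ((g ^ 5) ^ j * g ^ 13) * k⁻¹ := by rw [hcomm.eq]
      _ = k * (g ^ 5) ^ j * k⁻¹ * (k * g ^ 13 * k⁻¹) := by group)
  rw [conj_eq_one_iff] at h1
  rw [h1, orderOf_one] at hf
  norm_num at hf

theorem orderOf_ne_sixtyfive (g : ↥(chevE7.group (ZMod 2))) : orderOf g ≠ 65 :=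
  orderOf_ne_of_thirteen not_dvd_index_thirteen exists_thirteen g

end Cfsg.Lib.E7TwoSixtyFive
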