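import Cfsg.Agent.Known.SLTwo.Spectrum
import Cfsg.Agent.Known.UnitOrders.Spectrum
import Cfsg.Agent.SpecSymp.Lower

/-! Elements of order sixty-five in five small classical groups. -/

set_option autoImplicit false
set_option linter.style.haveILetI false

open Matrix

namespace Cfsg.Lib.E7TwoSixtyFive

variable {F : Type*} [Field F] [Fintype F]

theorem charP_two {n : ℕ} (hF : Fintype.card F = 2 ^ n) (hn : n ≠ 0) : CharP F 2 :=
  ringChar.of_eq (FiniteField.even_card_iff_char_two.2 (by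
    rw [hF]; exact Nat.mod_eq_zero_of_dvd (dvd_pow_self 2 hn) |>.trans rfl))

theorem psl_two_sixtyfive (h : Fintype.card F = 64) :
    ∃ x : Matrix.ProjectiveSpecialLinearGroup (Fin 2) F, orderOf x = 65 := by
  haveI := charP_two (n := 6) (by rw [h]; norm_num) (by norm_num)
  haveI : Fact (Nat.Prime 2) := ⟨Nat.prime_two⟩
  exact (Cfsg.Lib.GLTwo.psl_spectrum (F := F) 2 65).2 (Or.inr (Or.inr (by rw [h]; norm_num)))

theorem psp_two_sixtyfive (h : Fintype.card F = 8) : ∃ x : Cfsg.PSp 2 F, orderOf x = 65 := by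
  haveI := charP_two (n := 3) (by rw [h]; norm_num) (by norm_num)
  haveI : Fact (Nat.Prime 2) := ⟨Nat.prime_two⟩
  obtain ⟨⟨t, ht⟩, -⟩ := SympOrders.exists_torus (F := F) (show 1 ≤ 2 by norm_num)
  refine ⟨QuotientGroup.mk' _ t, ?_⟩
  rw [SpecSymp.orderOf_proj_char_two (p := 2) rfl t, ht, h]
  norm_num

theorem psp_three_sixtyfive (h : Fintype.card F = 8) : ∃ x : Cfsg.PSp 3 F, orderOf x = 65 := by
  haveI := charP_two (n := 3) (by rw [h]; norm_num) (by norm_num)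
  haveI : Fact (Nat.Prime 2) := ⟨Nat.prime_two⟩
  obtain ⟨⟨t, ht⟩, -⟩ := SympOrders.exists_torus (F := F) (show 1 ≤ 2 by norm_num)
  refine ⟨QuotientGroup.mk' (Subgroup.center (symplecticGroup (Fin (2 + 1)) F))
    (PrimeOrbitSymp.blockSp 2 1 (t, 1)), ?_⟩
  rw [SympOrders.orderOf_block (p := 2) le_rfl t 1 (k := 0) (one_pow _), orderOf_one, Nat.lcm_one_right, ht, h]
  norm_num

theorem psl_four_sixtyfive (h : Fintype.card F = 8) :
    ∃ x : Matrix.ProjectiveSpecialLinearGroup (Fin 4) F, orderOf x = 65 := by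
  classical
  haveI := charP_two (n := 3) (by rw [h]; norm_num) (by norm_num)
  obtain ⟨⟨t, ht⟩, -⟩ := SympOrders.exists_torus (F := F) (show 1 ≤ 2 by norm_num)
  rw [h, show (8 : ℕ) ^ 2 + 1 = 65 by norm_num] at ht
  let A : Matrix (Fin 4) (Fin 4) F := Matrix.reindexAlgEquiv F F finSumFinEquiv
    (t : Matrix (Fin 2 ⊕ Fin 2) (Fin 2 ⊕ Fin 2) F)
  have hoA : orderOf A = 65 := by
    rw [← ht]
    refine orderOf_eq_orderOf_iff.2 fun n => ?_
    show Matrix.reindexAlgEquiv F F _ _ ^ n = 1 ↔ _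
    rw [← map_pow, map_eq_one_iff _ (AlgEquiv.injective _), ← SubmonoidClass.coe_pow, OneMemClass.coe_eq_one]
  have hdet : A.det = 1 := by
    have h1 : A.det ^ 65 = 1 := by rw [← det_pow, ← hoA, pow_orderOf_eq_one, det_one]
    have h0 : A.det ≠ 0 := fun e => by rw [e, zero_pow (by norm_num)] at h1; exact zero_ne_one h1
    have h7 : A.det ^ 7 = 1 := by
      have := FiniteField.pow_card_sub_one_eq_one A.det h0
      rwa [h] at this
    have h2 : A.det ^ Nat.gcd 65 7 = 1 := pow_gcd_eq_one.2 ⟨h1, h7⟩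
    simpa using h2
  obtain ⟨B, hB⟩ : ∃ B : SpecialLinearGroup (Fin 4) F, (B : Matrix (Fin 4) (Fin 4) F) = A := ⟨⟨A, hdet⟩, rfl⟩
  refine ⟨QuotientGroup.mk' _ B, ?_⟩
  rw [← hoA]
  refine orderOf_eq_orderOf_iff.2 fun n => ?_
  rw [← map_pow, QuotientGroup.mk'_apply, QuotientGroup.eq_one_iff, Matrix.SpecialLinearGroup.mem_center_iff,
    Fintype.card_fin]
  have hc : ((B ^ n : SpecialLinearGroup (Fin 4) F) : Matrix (Fin 4) (Fin 4) F) = A ^ n := by
    rw [← hB]; exact Matrix.SpecialLinearGroup.coe_pow _ _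
  erw [hc]
  constructor
  · rintro ⟨r, hr, hs⟩
    have h4 : (r - 1) ^ 4 = 0 := by
      rw [show (r - 1) ^ 4 = ((r - 1) ^ 2) ^ 2 by ring, CharTwo.sub_eq_add, CharTwo.add_sq, CharTwo.add_sq,
        ← pow_mul, hr, one_pow, one_pow, CharTwo.add_self_eq_zero]
    rw [← hs, sub_eq_zero.1 ((pow_eq_zero_iff (by norm_num)).1 h4), map_one]
  · intro h1
    exact ⟨1, one_pow _, by rw [h1, map_one]⟩

theorem psu_four_sixtyfive (h : Fintype.card F = 64) : ∃ x : Cfsg.PSU 4 F 8, orderOf x = 65 := by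
  haveI := charP_two (n := 6) (by rw [h]; norm_num) (by norm_num)
  haveI : Fact (Nat.Prime 2) := ⟨Nat.prime_two⟩
  have hF : Fintype.card F = 8 ^ 2 := by rw [h]; norm_num
  obtain ⟨s, hs⟩ := UnitOrders.exists_torus hF 2 (n := 4) (by norm_num) (L := 455) (g := 1) (by norm_num) (by norm_num)
  have h65 : 65 ∣ orderOf s := (show 65 ∣ 455 / 1 by norm_num).trans hs
  obtain ⟨k, hk⟩ := h65
  have h0 : orderOf s ≠ 0 := (orderOf_pos s).ne'
  refine ⟨s ^ k, ?_⟩
  rw [orderOf_pow_of_dvd (fun e => h0 (by rw [hk, e, mul_zero])) ⟨65, by rw [hk, mul_comm]⟩, hk,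
    Nat.mul_div_cancel _ (Nat.pos_of_ne_zero fun e => h0 (by rw [hk, e, mul_zero]))]

end Cfsg.Lib.E7TwoSixtyFive
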