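import Cfsg.Agent.E7TwoSixtyFive.Block
import Cfsg.Agent.Chev.CyclicTorus.E7.Eigen

/-! An element of order five cannot centralise the twelfth-order torus element of thirteen-power in `E₇(2)`. -/

set_option autoImplicit false
set_option linter.unusedSectionVars false
set_option linter.style.haveILetI false
set_option maxHeartbeats 1600000
set_option maxRecDepth 4000

open Cfsg.Lie Matrix

namespace Cfsg.Lib.E7TwoSixtyFive

open Cfsg.Lib.Chev Cfsg.Lib.CyclicTorus Cfsg.Lib.CyclicTorus.E7T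

theorem top_pos : (top.all fun s => decide (63 ≤ s) && decide (chevE7.neg s < 63)) = true := by decide +kernel

theorem top_half {s : Fin chevE7.nroots} (hs : s.val ∈ top) :
    chevE7.nroots / 2 ≤ s.val ∧ chevE7.neg s.val < chevE7.nroots / 2 := by
  have h := List.all_eq_true.1 top_pos s.val hs
  simp only [Bool.and_eq_true, decide_eq_true_eq] at h
  rw [show chevE7.nroots / 2 = 63 from rfl]
  exact h

theorem not_dvd_weyl : ¬ 13 ∣ Nat.card ↥E7.struct.WG := by
  rw [show Nat.card ↥E7.struct.WG = 2903040 from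
    by exact_mod_cast (E7.struct.natCard_WG E7.poincare).trans E7.weylCard]
  norm_num

variable {a : Fin chevE7.rank → Fin chevE7.rank → ℤ} {y : Fin chevE7.rank → ℤ}
  {π : Equiv.Perm (Fin chevE7.nroots)} {b₀ b₁ b₂ : Fin chevE7.nroots}

theorem stab_faithful [Fact (Nat.Prime 13)] (hU : Uni chevE7 a) (T : Triple 13 π y b₀ b₁ b₂) (hy0 : ∃ i, (y i : ZMod 13) ≠ 0)
    (v : ↥E7.struct.WG) (hv : ∀ i, ((matW E7.struct hU v *ᵥ y) i : ZMod 13) = (y i : ZMod 13))
    (hfix : ∀ b ∈ [b₀, b₁, b₂], (v : Equiv.Perm (Fin chevE7.nroots)) b = b) : v = 1 := by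
  classical
  let S := E7.struct
  have hG : ∀ m ∈ Subgroup.zpowers v, ∀ i, ((matW S hU m *ᵥ y) i : ZMod 13) = y i := by
    intro m hm
    obtain ⟨n, rfl⟩ := mem_powers_iff_mem_zpowers.2 hm
    induction n with
    | zero => intro i; simp
    | succ n ih =>
      intro i
      have e4 := congrFun (red_mulVec 13 (matW S hU (v ^ n)) (matW S hU v *ᵥ y)) i
      show ((matW S hU (v ^ (n + 1)) *ᵥ y) i : ZMod 13) = y i
      rw [pow_succ, map_mul, ← Matrix.mulVec_mulVec, ← e4, funext hv, congrFun (red_mulVec 13 _ y) i]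
      exact ih (pow_mem (Subgroup.mem_zpowers v) n) i
  obtain ⟨z, -, hzfix, hz⟩ := sum_stab_ne_zero S hU not_dvd_weyl (G := Subgroup.zpowers v) hy0 hG
  set B := cv b₀ + cv b₁ + cv b₂ with hB
  have hfixB : matW S hU v *ᵥ B = B := by
    rw [hB, Matrix.mulVec_add, Matrix.mulVec_add, matW_cv, matW_cv, matW_cv,
      hfix b₀ (by simp), hfix b₁ (by simp), hfix b₂ (by simp)]
  set m : ℤ := 1 + ∑ s : Fin chevE7.nroots, |chiZ chevE7 s z| with hm
  refine eq_one_of_fix_regular S hU (z := (1 : ℤ) • z + (m * 13) • B) (fun s hs => ?_) ?_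
  · rw [chiZ_lin, one_mul] at hs
    by_cases h0 : (chiZ chevE7 s y : ZMod 13) = 0
    · have hB2 : chiZ chevE7 s B = 2 ∨ chiZ chevE7 s B = -2 := by
        obtain ⟨b, hb, hsb⟩ := (T.zero s).1 h0
        have hb2 : chiZ chevE7 b B = 2 := by
          simp only [List.mem_cons, List.not_mem_nil, or_false] at hb
          rcases hb with rfl | rfl | rfl <;>
          · rw [hB, chiZ_add, chiZ_add]
            simp [chiZ_cv_self, T.orth.1.st, T.orth.1.ts, T.orth.2.1.st, T.orth.2.1.ts, T.orth.2.2.st, T.orth.2.2.ts]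
        rcases hsb with rfl | hsb
        · exact Or.inl hb2
        · right; rw [hsb, chiZ_neg S b.isLt, hb2]
      have hle : |chiZ chevE7 s z| < m := by
        rw [hm]
        have h8 : |chiZ chevE7 s z| ≤ ∑ s : Fin chevE7.nroots, |chiZ chevE7 s z| :=
          Finset.single_le_sum (f := fun s : Fin chevE7.nroots => |chiZ chevE7 s z|)
            (fun i _ => abs_nonneg _) (Finset.mem_univ s)
        linarith
      obtain ⟨h1, h2⟩ := abs_lt.1 hle
      rcases hB2 with h | h <;> rw [h] at hs <;> linarith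
    · have h7 := congrArg (Int.cast : ℤ → ZMod 13) hs
      push_cast at h7
      rw [show (13 : ZMod 13) = 0 from rfl, mul_zero, zero_mul, add_zero] at h7
      have e : (chiZ chevE7 s z : ZMod 13) = (Nat.card ↥(Subgroup.zpowers v) : ZMod 13) * (chiZ chevE7 s y : ZMod 13) := by
        simp only [chiZ, Int.cast_sum, Int.cast_mul, hz, Finset.mul_sum]
        exact Finset.sum_congr rfl fun i _ => by ring
      rw [e, mul_eq_zero] at h7
      rcases h7 with h7 | h7
      · exact not_dvd_weyl (((ZMod.natCast_eq_zero_iff _ _).1 h7).trans (Subgroup.card_subgroup_dvd_card _))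
      · exact h0 h7
  · rw [Matrix.mulVec_add, Matrix.mulVec_smul, Matrix.mulVec_smul, hfixB, hzfix v (Subgroup.mem_zpowers v)]

variable {K : Type*} [Field K] [CharP K 2]

theorem blocks_e7 (T : Triple 13 π y b₀ b₁ b₂) : Nonempty (Blocks E7.struct K ![b₀, b₁, b₂]) := by
  have hmem : ∀ i, (![b₀, b₁, b₂] i).val ∈ top := by
    intro i; fin_cases i
    exacts [T.mem.1, T.mem.2.1, T.mem.2.2]
  have hc : ∀ {a b : Fin chevE7.nroots}, Orth a b → a.val ∈ top → b.val ∈ top → a ≠ b →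
      ∀ a' ∈ [a.val, chevE7.neg a.val], ∀ b' ∈ [b.val, chevE7.neg b.val],
      ∀ t u : K, Commute (E7.struct.ok.xG a' t) (E7.struct.ok.xG b' u) := by
    intro a b ho ha hb hab a' ha' b' hb' t u
    have hlt : a' < chevE7.nroots ∧ b' < chevE7.nroots := by
      simp only [List.mem_cons, List.not_mem_nil, or_false] at ha' hb'
      constructor
      · rcases ha' with rfl | rfl
        exacts [a.isLt, (E7.struct.neg_neg' a.isLt).1]
      · rcases hb' with rfl | rfl
        exacts [b.isLt, (E7.struct.neg_neg' b.isLt).1]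
    exact commute_xG E7.struct hlt.1 hlt.2 (top_ne ha hb hab a' ha' b' hb').1 (top_ne ha hb hab a' ha' b' hb').2
      (ho.comm a' ha' b' hb') t u
  refine exists_blocks _ _ (fun i => (top_half (hmem i)).1) fun i j hij a' ha' b' hb' t u => ?_
  fin_cases i <;> fin_cases j <;> first
    | exact absurd rfl hij
    | exact hc T.orth.1 (hmem 0) (hmem 1) T.ne.1 a' ha' b' hb' t u
    | exact (hc T.orth.1 (hmem 0) (hmem 1) T.ne.1 b' hb' a' ha' u t).symm
    | exact hc T.orth.2.1 (hmem 1) (hmem 2) T.ne.2.1 a' ha' b' hb' t u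
    | exact (hc T.orth.2.1 (hmem 1) (hmem 2) T.ne.2.1 b' hb' a' ha' u t).symm
    | exact hc T.orth.2.2 (hmem 0) (hmem 2) T.ne.2.2 a' ha' b' hb' t u
    | exact (hc T.orth.2.2 (hmem 0) (hmem 2) T.ne.2.2 b' hb' a' ha' u t).symm

theorem perm_five : ∀ ρ : Fin 3 → Fin 3, (∀ i, ρ (ρ (ρ (ρ (ρ i)))) = i) → ∀ i, ρ i = i := by decide +kernel

theorem cycle_three : ∀ i : Fin 3, i + 1 + 1 + 1 = i := by decide +kernel

theorem dvd_of_zpow_eq_one {ζ : Kˣ} (hζ : orderOf ζ = 4095) {s : Fin chevE7.nroots}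
    (h : ζ ^ chiZ chevE7 s ((315 : ℤ) • y) = 1) : (chiZ chevE7 s y : ZMod 13) = 0 := by
  rw [show chiZ chevE7 s ((315 : ℤ) • y) = 315 * chiZ chevE7 s y by simp [chiZ, Finset.mul_sum, mul_left_comm],
    ← orderOf_dvd_iff_zpow_eq_one, hζ] at h
  rw [ZMod.intCast_zmod_eq_zero_iff_dvd]
  omega

theorem unip_in_blocks {ζ : Kˣ} (hζ : orderOf ζ = 4095) (T : Triple 13 π y b₀ b₁ b₂)
    (B : Blocks E7.struct K ![b₀, b₁, b₂]) {u : GL chevE7.Idx K} (hu : u ∈ chevE7.posUnipotent K)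
    (hc : te chevE7 ζ ((315 : ℤ) • y) * u = u * te chevE7 ζ ((315 : ℤ) • y)) : ∃ t, B.vhom t = u := by
  let S := E7.struct
  set y' := (315 : ℤ) • y with hy'
  have hhs := S.hsum
  rw [S.posUnipotent_eq] at hu
  obtain ⟨t, rfl⟩ := S.exists_pw (chevE7.nroots - chevE7.nroots / 2) (chevE7.nroots / 2) (by omega) le_rfl u hu
  have e : te chevE7 ζ y' * S.pw (chevE7.nroots / 2) t * (te chevE7 ζ y')⁻¹ =
      S.pw (chevE7.nroots / 2) (fun i => ((ζ ^ chiZ chevE7 i y' : Kˣ) : K) * t i) := by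
    rw [← MulAut.conj_apply, Struct.pw, Struct.pw, map_list_prod, List.map_map]
    refine congrArg List.prod (List.map_congr_left fun i hi => ?_)
    rw [List.mem_range'_1] at hi
    simp only [Function.comp_apply, MulAut.conj_apply]
    exact te_conj_xG S ζ y' (by omega) (t i)
  rw [hc, mul_inv_cancel_right] at e
  have ht := S.pw_inj (chevE7.nroots - chevE7.nroots / 2) (chevE7.nroots / 2) (by omega) le_rfl _ _ e
  show S.pw (chevE7.nroots / 2) t ∈ B.vhom.range
  refine list_prod_mem fun g hg => ?_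
  obtain ⟨i, hi, rfl⟩ := List.mem_map.1 hg
  rw [List.mem_range'_1] at hi
  by_cases h0 : t i = 0
  · rw [h0, S.xG_zero]; exact one_mem _
  have h1 : ζ ^ chiZ chevE7 i y' = 1 := Units.ext ((mul_eq_right₀ h0).1 (ht i hi.1 (by omega)).symm)
  obtain ⟨b, hb, hib⟩ := (T.zero ⟨i, by omega⟩).1 (dvd_of_zpow_eq_one (s := ⟨i, by omega⟩) hζ h1)
  have hbt : b.val ∈ top := by
    simp only [List.mem_cons, List.not_mem_nil, or_false] at hb
    rcases hb with rfl | rfl | rfl
    exacts [T.mem.1, T.mem.2.1, T.mem.2.2]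
  have hib' : i = b.val := by
    rcases hib with hib | hib
    · exact congrArg Fin.val hib
    · have := (top_half hbt).2
      have h2 : i = chevE7.neg b.val := hib
      omega
  obtain ⟨k, hk⟩ : ∃ k, ![b₀, b₁, b₂] k = b := by
    simp only [List.mem_cons, List.not_mem_nil, or_false] at hb
    rcases hb with rfl | rfl | rfl
    exacts [⟨0, rfl⟩, ⟨1, rfl⟩, ⟨2, rfl⟩]
  refine ⟨Multiplicative.ofAdd (Pi.single k (t i)), ?_⟩
  rw [B.vhom_single, B.hu, hk, hib']

variable [Fintype K]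

theorem eq_one_of_centralises [Fact (Nat.Prime 13)] (hK : Fintype.card K = 2 ^ 12) (σ : K →+* K)
    (hσ : ∀ z, σ z = z ^ 2) (hinj : Function.Injective (Ok.tG chevE7 K)) {ζ : Kˣ} (hζ : orderOf ζ = 4095)
    (hgen : ∀ c : Kˣ, c ∈ Subgroup.zpowers ζ) (hU : Uni chevE7 a) {g : GL chevE7.Idx K} (hg : g ∈ chevE7.group K)
    {L : List (Fin chevE7.rank)} {c : Fin chevE7.rank → Kˣ}
    (en : g⁻¹ * phiG σ chevE7 g = Ok.tG chevE7 K c * E7.struct.nL K L)
    (M : Matrix (Fin chevE7.rank) (Fin chevE7.rank) ℤ) (hM : ∀ z, M *ᵥ (matL chevE7 L *ᵥ z) = z)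
    (hdet : (Matrix.scalar (Fin chevE7.rank) (2 : ℤ) - M).det = 91)
    (T : Triple 13 (E7.struct.wpL L) y b₀ b₁ b₂) (hy0 : ∃ i, (y i : ZMod 13) ≠ 0)
    {f : GL chevE7.Idx K} (hf : f ∈ chevE7.group K) (hfix : phiG σ chevE7 f = f) (hf5 : f ^ 5 = 1)
    (hcomm : f * (g * te chevE7 ζ ((315 : ℤ) • y) * g⁻¹) = g * te chevE7 ζ ((315 : ℤ) • y) * g⁻¹ * f) : f = 1 := by
  classical
  let S := E7.struct
  obtain ⟨B⟩ := blocks_e7 (K := K) T
  set b : Fin 3 → Fin chevE7.nroots := ![b₀, b₁, b₂] with hb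
  set y' := (315 : ℤ) • y with hy'
  set n := g⁻¹ * phiG σ chevE7 g with hn
  set z := g⁻¹ * f * g with hz
  have hzG : z ∈ chevE7.group K := mul_mem (mul_mem (inv_mem hg) hf) hg
  have hz5 : z ^ 5 = 1 := by
    rw [hz, show g⁻¹ * f * g = g⁻¹ * f * g⁻¹⁻¹ by rw [inv_inv], conj_pow, hf5, mul_one, inv_inv, inv_mul_cancel]
  have hztw : n * phiG σ chevE7 z * n⁻¹ = z := by
    rw [hn, hz, map_mul, map_mul, map_inv, hfix]; group
  have hzc : z * te chevE7 ζ y' * z⁻¹ = te chevE7 ζ y' := by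
    rw [hz, show g⁻¹ * f * g * te chevE7 ζ y' * (g⁻¹ * f * g)⁻¹ =
      g⁻¹ * (f * (g * te chevE7 ζ y' * g⁻¹)) * f⁻¹ * g by group, hcomm]
    group
  obtain ⟨L₁, v, d, u, hv, hd, hu, ez, eL, ecu, ecv⟩ := conj_te S okNeg_E7 ζ hzG hzc
  set π₁ := S.wpL L₁ with hπ₁
  obtain ⟨tv, rfl⟩ := unip_in_blocks hζ T B hv ecv
  obtain ⟨tu, rfl⟩ := unip_in_blocks hζ T B (S.UPsi_le _ hu) ecu
  have hy13 : ∀ i, ((matL chevE7 L₁ *ᵥ y) i : ZMod 13) = (y i : ZMod 13) := fun i => by
    have h1 := (te_eq_iff ζ hζ hinj).1 eL i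
    rw [hy', Matrix.mulVec_smul, Pi.smul_apply, Pi.smul_apply, smul_eq_mul, smul_eq_mul,
      ZMod.intCast_eq_intCast_iff_dvd_sub] at h1
    rw [ZMod.intCast_eq_intCast_iff_dvd_sub]
    omega
  have hχ : ∀ s, (chiZ chevE7 (π₁ s) y : ZMod 13) = (chiZ chevE7 s y : ZMod 13) := fun s => by
    conv_rhs => rw [← chiZ_wpL S L₁ s y]
    simp only [chiZ, Int.cast_sum, Int.cast_mul, hy13]
    rfl
  have hbt : ∀ i, (b i).val ∈ top := by
    intro i; fin_cases i
    exacts [T.mem.1, T.mem.2.1, T.mem.2.2]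
  have hmemb : ∀ x ∈ [b₀, b₁, b₂], ∃ j, b j = x := by
    intro x hx
    simp only [List.mem_cons, List.not_mem_nil, or_false] at hx
    rcases hx with rfl | rfl | rfl
    exacts [⟨0, rfl⟩, ⟨1, rfl⟩, ⟨2, rfl⟩]
  have hbzero : ∀ i, (chiZ chevE7 (b i) y : ZMod 13) = 0 := by
    intro i; fin_cases i
    · exact (T.zero _).2 ⟨b₀, by simp, Or.inl rfl⟩
    · exact (T.zero _).2 ⟨b₁, by simp, Or.inl rfl⟩
    · exact (T.zero _).2 ⟨b₂, by simp, Or.inl rfl⟩
  have himg : ∀ i, ∃ j, π₁ (b i) = b j ∨ (π₁ (b i)).val = chevE7.neg (b j).val := by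
    intro i
    obtain ⟨x, hx, h⟩ := (T.zero (π₁ (b i))).1 (by rw [hχ, hbzero])
    obtain ⟨j, rfl⟩ := hmemb x hx
    exact ⟨j, h⟩
  choose ρ hρ using himg
  have hsq : ∀ x : K, ∃ s, s ^ 2 = x := fun x =>
    (FiniteField.isSquare_of_char_two (ringChar.eq K 2) x).elim fun s hs => ⟨s, by rw [pow_two]; exact hs.symm⟩
  set n₁ := d * S.nL K L₁ with hn₁
  have hact₁ : Act S.ok n₁ π₁ := by
    have := S.act_mul (S.act_diag hd) (S.act_nL (F := K) L₁)
    rwa [one_mul] at this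
  choose s hs using fun i => B.maps_act hact₁ i (ρ i) (fun hr => S.wp_neg L₁ (b i) hr) hsq (hρ i)
  have ez' : z = B.vhom tv * n₁ * B.vhom tu := by rw [ez, hn₁]; group
  let A : Fin 3 → SL K := fun i =>
    uM (tv.toAdd (ρ i)) * ((if π₁ (b i) = b (ρ i) then dM (s i) else aM (s i)) * uM (tu.toAdd i))
  have hA : ∀ i, B.Maps z i (ρ i) (A i) := fun i => by
    rw [ez', mul_assoc]
    exact B.maps_mul (B.maps_mul (B.maps_vhom tu i) (hs i)) (B.maps_vhom tv (ρ i))
  have h55 : ∀ i, B.Maps 1 i (ρ (ρ (ρ (ρ (ρ i)))))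
      (A (ρ (ρ (ρ (ρ i)))) * (A (ρ (ρ (ρ i))) * (A (ρ (ρ i)) * (A (ρ i) * A i)))) := fun i => by
    rw [← hz5, show z ^ 5 = z * (z * (z * (z * z))) by simp [pow_succ, mul_assoc]]
    exact B.maps_mul (B.maps_mul (B.maps_mul (B.maps_mul (hA i) (hA _)) (hA _)) (hA _)) (hA _)
  have hone : ∀ i, B.Maps 1 i i 1 := fun i X => by simp
  have hρid : ∀ i, ρ i = i := perm_five ρ fun i => (B.maps_unique (h55 i) (hone i)).1
  have hA' : ∀ i, B.Maps z i i (A i) := fun i => by simpa only [hρid i] using hA i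
  have hA5 : ∀ i, A i ^ 5 = 1 := fun i => by
    have h := (B.maps_unique (h55 i) (hone i)).2
    simp only [hρid] at h
    rw [← h]
    simp [pow_succ, mul_assoc]
  -- the twist carries one block to the next
  have hnext : ∀ i : Fin 3, S.wpL L (b i) = b (i + 1) := by
    intro i; fin_cases i
    exacts [T.cyc.1, T.cyc.2.1, T.cyc.2.2]
  have hactn : Act S.ok n (S.wpL L) := by
    have hd' : Ok.tG chevE7 K c ∈ chevE7.diagonalSubgroup K := by rw [S.ok.diagonalSubgroup_eq]; exact ⟨_, rfl⟩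
    have := S.act_mul (S.act_diag hd') (S.act_nL (F := K) L)
    rw [one_mul] at this
    rwa [en]
  choose r hr using fun i => B.maps_act hactn i (i + 1) (fun hr => S.wp_neg L (b i) hr) hsq (Or.inl (hnext i))
  simp only [if_pos (hnext _)] at hr
  let σS : SL K →* SL K := Matrix.SpecialLinearGroup.map σ
  have hσu : ∀ t, σS (uM t) = uM (σ t) := fun t => by
    apply mat_inj
    ext i j
    fin_cases i <;> fin_cases j <;> first | exact map_one σ | exact map_zero σ | rfl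
  have hσl : ∀ t, σS (lM t) = lM (σ t) := fun t => by
    apply mat_inj
    ext i j
    fin_cases i <;> fin_cases j <;> first | exact map_one σ | exact map_zero σ | rfl
  have hσsurj : Function.Surjective σS := Finite.surjective_of_injective fun X Y h => mat_inj (by
    ext i j
    exact σ.injective (congrFun (congrFun (congrArg mat h) i) j))
  have hΦ : ∀ i X, n * phiG σ chevE7 (B.ψ i X) * n⁻¹ = B.ψ (i + 1) (dM (r i) * σS X * (dM (r i))⁻¹) := by
    intro i X
    rw [← hr i]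
    have e := hom_ext (φ := (phiG σ chevE7).comp (B.ψ i)) (φ' := (B.ψ i).comp σS)
      (fun t => by simp [B.hu, hσu, phiG_xG σ S]) (fun t => by simp [B.hl, hσl, phiG_xG σ S])
    rw [show phiG σ chevE7 (B.ψ i X) = B.ψ i (σS X) from DFunLike.congr_fun e X]
  have hstep : ∀ i, A (i + 1) = dM (r i) * σS (A i) * (dM (r i))⁻¹ := by
    intro i
    refine (B.maps_unique (j' := i + 1) (hA' (i + 1)) (A' := dM (r i) * σS (A i) * (dM (r i))⁻¹) fun Y => ?_).2
    obtain ⟨X, hX⟩ := hσsurj ((dM (r i))⁻¹ * Y * dM (r i))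
    have hY : Y = dM (r i) * σS X * (dM (r i))⁻¹ := by rw [hX]; group
    conv_lhs => rw [hY, ← hΦ, ← hztw]
    have e1 : ∀ Z W : GL chevE7.Idx K, n * phiG σ chevE7 Z * n⁻¹ * (n * phiG σ chevE7 W * n⁻¹) *
        (n * phiG σ chevE7 Z * n⁻¹)⁻¹ = n * phiG σ chevE7 (Z * W * Z⁻¹) * n⁻¹ := fun Z W => by
      rw [map_mul, map_mul, map_inv]; group
    rw [e1, hA' i X, hΦ, hY, map_mul σS, map_mul σS, map_inv σS]
    exact congrArg (B.ψ (i + 1)) (by group)
  have htr : ∀ i, tr (A (i + 1)) = tr (A i) ^ 2 := fun i => by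
    rw [hstep, tr_dM_conj, ← hσ, tr, tr, map_add]
    rfl
  have htr8 : ∀ i, tr (A i) ^ 8 = tr (A i) := fun i => by
    have h := htr (i + 1 + 1)
    rw [htr (i + 1), htr i, show i + 1 + 1 + 1 = i from cycle_three i] at h
    linear_combination -h
  have hA1 : ∀ i, A i = 1 := fun i => eq_one_of_pow_five (hA5 i) (htr8 i)
  have hfixb : ∀ i, π₁ (b i) = b i ∧ s i = 1 ∧ tv.toAdd i + tu.toAdd i = 0 := by
    intro i
    have h1 : A i = 1 := hA1 i
    simp only [A, hρid i] at h1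
    by_cases hp : π₁ (b i) = b i
    · rw [if_pos hp] at h1
      have h2 := congrArg mat h1
      have e00 := congrFun (congrFun h2 0) 0
      have e01 := congrFun (congrFun h2 0) 1
      simp [mat_mul, mat_uM, mat_dM, mat_one, Matrix.mul_apply, Fin.sum_univ_two] at e00 e01
      refine ⟨hp, Units.ext (by simpa using e00), ?_⟩
      have e1 : (s i : K) = 1 := by simpa using e00
      simp [e1] at e01
      rw [add_comm]; exact e01
    · rw [if_neg hp] at h1
      have h2 := congrFun (congrFun (congrArg mat h1) 1) 0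
      simp [mat_mul, mat_uM, mat_aM, mat_one, Matrix.mul_apply, Fin.sum_univ_two] at h2
  let w₁ : ↥S.WG := ⟨π₁, S.wpL_mem_WG L₁⟩
  have hw1 : π₁ = 1 := congrArg Subtype.val (stab_faithful hU T hy0 w₁
    (fun i => by rw [matW_eq S hU w₁ (L := L₁) rfl]; exact hy13 i)
    (fun x hx => by obtain ⟨j, rfl⟩ := hmemb x hx; exact (hfixb j).1))
  have hn₁d : n₁ ∈ chevE7.diagonalSubgroup K := mul_mem hd (S.nL_mem_diag _ L₁ rfl hw1)
  have hn₁c : ∀ i X, n₁ * B.ψ i X = B.ψ i X * n₁ := fun i X => by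
    have h := hs i X
    simp only [hρid i, if_pos (hfixb i).1, (hfixb i).2.1] at h
    rw [show (dM 1 : SL K) = 1 from mat_inj (by
      rw [mat_dM, mat_one, inv_one, Units.val_one]
      ext p q; fin_cases p <;> fin_cases q <;> simp), one_mul, inv_one, mul_one] at h
    exact mul_inv_eq_iff_eq_mul.1 h
  have hzn : z = n₁ := by
    have hc1 : Commute n₁ (B.vhom tv) := by
      show Commute n₁ (B.ψ 0 _ * B.ψ 1 _ * B.ψ 2 _)
      exact Commute.mul_right (Commute.mul_right (hn₁c 0 _) (hn₁c 1 _)) (hn₁c 2 _)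
    have hcv : B.vhom tv * n₁ = n₁ * B.vhom tv := hc1.eq.symm
    rw [ez', hcv, mul_assoc, ← map_mul, show tv * tu = 1 from
      Multiplicative.toAdd.injective (funext fun i => (hfixb i).2.2), map_one, mul_one]
  rw [S.ok.diagonalSubgroup_eq] at hn₁d
  obtain ⟨c₀, hc₀⟩ := hn₁d
  obtain ⟨e, rfl⟩ := exists_exponents hgen c₀
  replace hc₀ : z = te chevE7 ζ e := hzn.trans hc₀.symm
  have hte_pow : phiG σ chevE7 (te chevE7 ζ e) = te chevE7 ζ ((2 : ℤ) • e) := by
    rw [te, te, phiG_tG σ hσ]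
    congr 1
    funext i
    simp only [Pi.pow_apply, zc, Pi.smul_apply, smul_eq_mul]
    rw [← zpow_natCast, ← _root_.zpow_mul, mul_comm]
    rfl
  have he : ∀ i, ((matL chevE7 L *ᵥ ((2 : ℤ) • e)) i : ZMod 4095) = (e i : ZMod 4095) := by
    refine (te_eq_iff ζ hζ hinj).1 ?_
    have hdd : Ok.tG chevE7 K c ∈ chevE7.diagonalSubgroup K := by rw [S.ok.diagonalSubgroup_eq]; exact ⟨_, rfl⟩
    rw [← hc₀]
    conv_rhs => rw [← hztw, hc₀, hte_pow, en, _root_.mul_inv_rev, show ∀ (p q r : GL chevE7.Idx K),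
      p * q * r * (q⁻¹ * p⁻¹) = p * (q * r * q⁻¹) * p⁻¹ from fun p q r => by group, nL_conj_te S ζ,
      diag_comm S hdd (te_mem S ζ _), mul_inv_cancel_right]
  set AA := Matrix.scalar (Fin chevE7.rank) (2 : ℤ) - M with hAA
  have hAe : ∀ i, ((AA *ᵥ e) i : ZMod 4095) = 0 := fun i => by
    have h1 := congrFun (red_mulVec 4095 M (matL chevE7 L *ᵥ ((2 : ℤ) • e))) i
    rw [hM, funext he, congrFun (red_mulVec 4095 M e) i] at h1
    rw [show (AA *ᵥ e) i = 2 * e i - (M *ᵥ e) i by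
      simp [hAA, Matrix.sub_mulVec, Matrix.scalar_apply, Matrix.mulVec_diagonal], Int.cast_sub, h1]
    simp
  have h91 : ∀ i, (((91 : ℤ) • e) i : ZMod 4095) = ((0 : Fin chevE7.rank → ℤ) i : ZMod 4095) := fun i => by
    have h1 : AA.adjugate *ᵥ (AA *ᵥ e) = (91 : ℤ) • e := by
      rw [Matrix.mulVec_mulVec, Matrix.adjugate_mul, hdet, Matrix.smul_mulVec, Matrix.one_mulVec]
    rw [← h1, ← congrFun (red_mulVec 4095 AA.adjugate (AA *ᵥ e)) i, funext hAe,
      show (fun _ : Fin chevE7.rank => (0 : ZMod 4095)) = 0 from rfl, Matrix.mulVec_zero]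
    simp
  have hz91 : z ^ 91 = 1 := by
    rw [hc₀, te, ← map_pow, show zc ζ e ^ 91 = zc ζ ((91 : ℤ) • e) by
      funext i; simp only [Pi.pow_apply, zc, Pi.smul_apply, smul_eq_mul]
      rw [← zpow_natCast, ← _root_.zpow_mul, mul_comm]; rfl]
    rw [show Ok.tG chevE7 K (zc ζ ((91 : ℤ) • e)) = te chevE7 ζ ((91 : ℤ) • e) from rfl, te_congr ζ hζ h91, te,
      show zc ζ (0 : Fin chevE7.rank → ℤ) = 1 from funext fun i => _root_.zpow_zero ζ, map_one]
  have hz1 : z = 1 := by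
    have h : z ^ Nat.gcd 5 91 = 1 := pow_gcd_eq_one.2 ⟨hz5, hz91⟩
    simpa using h
  calc f = g * z * g⁻¹ := by rw [hz]; group
    _ = 1 := by rw [hz1, mul_one, mul_inv_cancel]

end Cfsg.Lib.E7TwoSixtyFive
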